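import Cfsg.Agent.Fi23Centralizer.ZData
import Cfsg.Agent.CosetCert.Fi23Index31671.Defs

/-!
# Kernel checks: the word `(bcdefgh)^9` commutes with `a, …, i` in the table
-/

set_option Elab.async false
set_option maxRecDepth 100000

namespace Cfsg.Agent.Fi23Centralizer

open Cfsg.Agent.CosetCert

/-- The word. -/
def zWord : List Nat := (List.replicate 9 [1, 2, 3, 4, 5, 6, 8]).flatten

/-- The permutation of the word is the stored one, and commutes with the nine letters. -/
noncomputable def okZ (c : Nat) : Bool :=
  force (get48 zStore c) fun d => Nat.beq (Fi23Index31671.data.fwd zWord c) d &&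
    ([0, 1, 2, 3, 4, 5, 6, 8, 9] : List Nat).all fun x =>
      Nat.beq (get48 zStore (Fi23Index31671.data.T c x)) (Fi23Index31671.data.T d x)

theorem okZ0 : allFrom okZ 0 8000 = true := by decide +kernel

theorem okZ1 : allFrom okZ 8000 8000 = true := by decide +kernel

theorem okZ2 : allFrom okZ 16000 8000 = true := by decide +kernel

theorem okZ3 : allFrom okZ 24000 7671 = true := by decide +kernel

theorem okZ_all : ∀ c, c < 31671 → okZ c = true := by
  have h0 : ∀ c, c < 0 → okZ c = true := forall_lt_zero
  have h1 := forall_lt_step (b := 8000) h0 okZ0 rfl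
  have h2 := forall_lt_step (b := 16000) h1 okZ1 rfl
  have h3 := forall_lt_step (b := 24000) h2 okZ2 rfl
  have h4 := forall_lt_step (b := 31671) h3 okZ3 rfl
  exact h4

theorem ab_ne : Fi23Index31671.data.fwd [0, 1] 6 ≠ Fi23Index31671.data.fwd [1, 0] 6 := by
  decide +kernel

end Cfsg.Agent.Fi23Centralizer
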