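import Cfsg.Agent.Fi23Centralizer.Check
import Cfsg.Agent.CosetCert.Fi23Order.Main
import Cfsg.Agent.CosetCert.Fi22Order.Main
import Cfsg.Prelude.Def_SporadicB

/-!
# The transposition centraliser in the presented group Fi23 is `2·Fi22`

In `H = ⟨a, …, i⟩` the word `(bcdefgh)^9` is central (seen in the faithful action on 31671
points), so `Fi22` maps onto `H / Z(H)`; counting gives `|Z(H)| = 2`, and the relator
`(abcdefh)^9`, of odd length, shows that `H` has no subgroup of index two.
-/

set_option autoImplicit false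
set_option maxRecDepth 100000
set_option maxHeartbeats 2000000

namespace Cfsg.Agent.Fi23Centralizer

open Cfsg.Agent.CosetCert Cfsg.Spor

/-- The relators of Fi23. -/
abbrev rels23 : Set (FreeGroup Fi23.Gen) := coxRelators Fi23.edges ∪ {r | r ∈ Fi23.extra}

/-- The relators of Fi22. -/
abbrev rels22 : Set (FreeGroup Fi22.Gen) := coxRelators Fi22.edges ∪ {r | r ∈ Fi22.extra}

/-- The subgroup in question. -/
abbrev H : Subgroup (PresentedGroup rels23) := Data.sub rels23 Fi23Index31671.subGens

/-- The generators by the same names. -/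
def toGen : Fi22.Gen → Fi23.Gen
  | .a => .a
  | .b => .b
  | .c => .c
  | .d => .d
  | .e => .e
  | .f => .f
  | .g => .g
  | .h => .h
  | .i => .i

/-- All generators of Fi22. -/
def gens22 : List Fi22.Gen := [.a, .b, .c, .d, .e, .f, .g, .h, .i]

theorem subGens_eq :
    Fi23Index31671.subGens = gens22.map fun x => FreeGroup.of (toGen x) := rfl

theorem toGen_mem (x : Fi22.Gen) : FreeGroup.of (toGen x) ∈ Fi23Index31671.subGens := by
  rw [subGens_eq]
  exact List.mem_map.2 ⟨x, by cases x <;> simp [gens22], rfl⟩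

/-- A generator of `H`. -/
def hEl (x : Fi22.Gen) : H :=
  ⟨PresentedGroup.mk rels23 (FreeGroup.of (toGen x)),
    Subgroup.mem_map_of_mem _ (Subgroup.subset_closure (toGen_mem x))⟩

theorem closure_hEl : Subgroup.closure (Set.range hEl) = ⊤ := by
  apply Subgroup.map_injective (H.subtype_injective)
  rw [MonoidHom.map_closure, ← MonoidHom.range_eq_map, Subgroup.range_subtype]
  refine Eq.trans ?_ (MonoidHom.map_closure (PresentedGroup.mk rels23)
    {s | s ∈ Fi23Index31671.subGens}).symm
  congr 1
  ext g
  constructor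
  · rintro ⟨_, ⟨x, rfl⟩, rfl⟩
    exact ⟨_, toGen_mem x, rfl⟩
  · rintro ⟨w, hw, rfl⟩
    rw [subGens_eq] at hw
    obtain ⟨x, -, rfl⟩ := List.mem_map.1 hw
    exact ⟨hEl x, ⟨x, rfl⟩, rfl⟩

theorem lift_hEl (w : FreeGroup Fi22.Gen) :
    ((FreeGroup.lift hEl w : H) : PresentedGroup rels23) =
      PresentedGroup.mk rels23 (FreeGroup.map toGen w) := by
  have : H.subtype.comp (FreeGroup.lift hEl) =
      (PresentedGroup.mk rels23).comp (FreeGroup.map toGen) :=
    FreeGroup.ext_hom _ _ fun x => by simp [hEl]
  exact DFunLike.congr_fun this w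

theorem exists_faithful :
    ∃ φ : PresentedGroup rels23 →* Equiv.Perm (Fin Fi23Index31671.data.n), Function.Injective φ ∧
      ∀ (l : List (Fi23.Gen × Bool)) (c : Fin Fi23Index31671.data.n),
        (((φ (PresentedGroup.mk rels23 (FreeGroup.mk l)))⁻¹ c : Fin Fi23Index31671.data.n) : Nat) =
          Fi23Index31671.data.fwd
            (l.map (Data.code Fi23Index31671.data.iv Fi23Index31671.enc)) c := by
  obtain ⟨φ, π, -, hfwd⟩ := Data.enumeration Fi23Index31671.valid Fi23Index31671.spells
  exact ⟨φ, (Data.order_eq Fi23Index31671.valid Fi23Index31671.spells φ hfwd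
    Fi23Order.card_bound.1 Fi23Order.card_bound.2 Fi23Order.levels Fi23Order.levels_ok
    (by decide +kernel)).1, hfwd⟩

/-- The central word. -/
def zList : List (Fi23.Gen × Bool) :=
  (List.replicate 9 [(.b, true), (.c, true), (.d, true), (.e, true), (.f, true), (.g, true), (.h, true)]).flatten

theorem zList_code :
    zList.map (Data.code Fi23Index31671.data.iv Fi23Index31671.enc) = zWord := by decide +kernel

theorem z_eq : FreeGroup.map toGen
    ((Fi22.b * Fi22.c * Fi22.d * Fi22.e * Fi22.f * Fi22.g * Fi22.h) ^ 9) = FreeGroup.mk zList := by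
  decide +kernel

theorem code_mem (x : Fi22.Gen) :
    Fi23Index31671.enc (toGen x) ∈ ([0, 1, 2, 3, 4, 5, 6, 8, 9] : List Nat) := by
  cases x <;> decide

theorem z_commute (x : Fi22.Gen) :
    Commute (PresentedGroup.mk rels23 (FreeGroup.mk zList))
      (PresentedGroup.mk rels23 (FreeGroup.of (toGen x))) := by
  obtain ⟨φ, hinj, hfwd⟩ := exists_faithful
  unfold Commute SemiconjBy
  apply hinj
  apply inv_injective
  ext c
  rw [← map_mul, ← map_mul, FreeGroup.of, FreeGroup.mul_mk, FreeGroup.mul_mk, hfwd, hfwd,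
    List.map_append, List.map_append, Data.fwd_append, Data.fwd_append, zList_code]
  simp only [List.map_cons, List.map_nil]
  rw [show Data.code Fi23Index31671.data.iv Fi23Index31671.enc (toGen x, true) =
    Fi23Index31671.enc (toGen x) from rfl]
  have one : ∀ d y : Nat, Fi23Index31671.data.fwd [y] d = Fi23Index31671.data.T d y := fun d y => by
    simp [Data.fwd_cons, Data.fwd_nil]
  rw [one, one]
  have h := okZ_all c c.2
  simp only [okZ, force_eq, Bool.and_eq_true] at h
  have hd : Fi23Index31671.data.fwd zWord c = get48 zStore c := Nat.eq_of_beq_eq_true h.1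
  have hlt : Fi23Index31671.data.T c (Fi23Index31671.enc (toGen x)) < 31671 :=
    (Fi23Index31671.valid.edge c.2 (Fi23Index31671.spells.enc_lt _).1).1
  have h2 := okZ_all _ hlt
  simp only [okZ, force_eq, Bool.and_eq_true] at h2
  rw [hd, Nat.eq_of_beq_eq_true h2.1]
  exact (Nat.eq_of_beq_eq_true (List.all_eq_true.1 h.2 _ (code_mem x))).symm

theorem lift_center (w : FreeGroup Fi22.Gen)
    (hw : ∀ x, Commute (PresentedGroup.mk rels23 (FreeGroup.map toGen w))
      (PresentedGroup.mk rels23 (FreeGroup.of (toGen x)))) :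
    FreeGroup.lift hEl w ∈ Subgroup.center H := by
  rw [Subgroup.mem_center_iff]
  intro g
  have hle : Subgroup.closure (Set.range hEl) ≤
      Subgroup.centralizer ({FreeGroup.lift hEl w} : Set H) := by
    rw [Subgroup.closure_le]
    rintro _ ⟨x, rfl⟩
    rw [SetLike.mem_coe, Subgroup.mem_centralizer_singleton_iff]
    apply Subtype.ext
    rw [Subgroup.coe_mul, Subgroup.coe_mul, lift_hEl]
    exact (hw x).symm.eq
  rw [closure_hEl] at hle
  exact Subgroup.mem_centralizer_singleton_iff.1 (hle (Subgroup.mem_top g))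

theorem label_eq : ∀ x ∈ gens22, ∀ y ∈ gens22,
    coxLabel Fi22.edges x y = coxLabel Fi23.edges (toGen x) (toGen y) := by decide +kernel

theorem node_mem : ∀ x ∈ gens22, toGen x ∈ coxNodes Fi23.edges := by decide +kernel

theorem extra1_mem : FreeGroup.map toGen
    ((Fi22.d * Fi22.c * Fi22.b * Fi22.d * Fi22.e * Fi22.f * Fi22.d * Fi22.h * Fi22.i) ^ 10) ∈
      Fi23.extra := by decide +kernel

theorem extra2_mem : FreeGroup.map toGen
    ((Fi22.a * Fi22.b * Fi22.c * Fi22.d * Fi22.e * Fi22.f * Fi22.h) ^ 9) ∈ Fi23.extra := by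
  decide +kernel

theorem card_H : Nat.card H = 129123503308800 := by
  have h := H.card_mul_index
  have hi : H.index = 31671 := Fi23Index31671.index_val
  have hG : Nat.card (PresentedGroup rels23) = 4089470473293004800 := Fi23Order.order_and_simple.2
  rw [hi, hG] at h
  omega

theorem ab_not_commute : ¬ Commute (hEl .a) (hEl .b) := by
  intro h
  obtain ⟨φ, -, hfwd⟩ := exists_faithful
  have h1 : PresentedGroup.mk rels23 (FreeGroup.mk [(Fi23.Gen.a, true), (Fi23.Gen.b, true)]) =
      PresentedGroup.mk rels23 (FreeGroup.mk [(Fi23.Gen.b, true), (Fi23.Gen.a, true)]) :=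
    congrArg Subtype.val h.eq
  have e1 := hfwd [(Fi23.Gen.a, true), (Fi23.Gen.b, true)] ⟨6, by decide +kernel⟩
  rw [h1, hfwd] at e1
  exact ab_ne e1.symm

theorem braid_same (L : Subgroup H) (hL : L.index = 2) {x y : Fi22.Gen}
    (h : coxLabel Fi22.edges x y = 3) (hx : x ∈ gens22) (hy : y ∈ gens22) :
    hEl x ∈ L ↔ hEl y ∈ L := by
  have h1 : (hEl x * hEl y) ^ 3 = 1 := by
    apply Subtype.ext
    rw [label_eq x hx y hy] at h
    have := PresentedGroup.one_of_mem (rels := rels23) (x := (FreeGroup.of (toGen x) * FreeGroup.of (toGen y)) ^ 3)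
      (Or.inl ⟨_, node_mem x hx, _, node_mem y hy, by rw [h]⟩)
    simpa [hEl, map_mul, map_pow] using this
  have h2 := Subgroup.mul_mem_iff_of_index_two hL (a := hEl x) (b := hEl y)
  refine h2.1 ?_
  have h3 : hEl x * hEl y = ((hEl x * hEl y) * (hEl x * hEl y)) * ((hEl x * hEl y) * (hEl x * hEl y)) := by
    calc hEl x * hEl y = hEl x * hEl y * (hEl x * hEl y) ^ 3 := by rw [h1, mul_one]
      _ = _ := by simp [pow_succ, mul_assoc]
  rw [h3]
  exact L.mul_mem (Subgroup.mul_self_mem_of_index_two hL _) (Subgroup.mul_self_mem_of_index_two hL _)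

theorem nonsplit_double : Cfsg.IsNonsplitDoubleCover H Cfsg.Spor.Fi22 := by
  have : Finite (PresentedGroup rels23) := Fi23Order.card_bound.1
  have hr : ∀ r ∈ rels22,
      FreeGroup.lift (fun x => QuotientGroup.mk' (Subgroup.center H) (hEl x)) r = 1 := by
    intro r hr
    have hcomp : FreeGroup.lift (fun x => QuotientGroup.mk' (Subgroup.center H) (hEl x)) =
        (QuotientGroup.mk' (Subgroup.center H)).comp (FreeGroup.lift hEl) :=
      FreeGroup.ext_hom _ _ fun x => by simp
    rw [hcomp, MonoidHom.comp_apply, QuotientGroup.mk'_apply, QuotientGroup.eq_one_iff]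
    have hone : FreeGroup.map toGen r ∈ rels23 → FreeGroup.lift hEl r ∈ Subgroup.center H := by
      intro hm
      have : FreeGroup.lift hEl r = 1 := Subtype.ext (by
        rw [lift_hEl]; exact PresentedGroup.one_of_mem hm)
      rw [this]
      exact one_mem _
    have hall : ∀ x : Fi22.Gen, x ∈ gens22 := fun x => by cases x <;> simp [gens22]
    rcases hr with ⟨x, -, y, -, rfl⟩ | hr
    · refine hone (Or.inl ⟨_, node_mem x (hall x), _, node_mem y (hall y), ?_⟩)
      rw [map_pow, map_mul, FreeGroup.map.of, FreeGroup.map.of, label_eq x (hall x) y (hall y)]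
    · simp only [Set.mem_ofPred_eq, Fi22.extra, List.mem_cons, List.not_mem_nil, or_false] at hr
      rcases hr with rfl | rfl | rfl
      · exact hone (Or.inr extra1_mem)
      · exact hone (Or.inr extra2_mem)
      · exact lift_center _ fun x => by rw [z_eq]; exact z_commute x
  let β : Cfsg.Spor.Fi22 →* H ⧸ Subgroup.center H := PresentedGroup.toGroup hr
  have hsurj : Function.Surjective β := by
    rw [← MonoidHom.range_eq_top, eq_top_iff,
      ← Subgroup.map_top_of_surjective _ (QuotientGroup.mk'_surjective (Subgroup.center H)),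
      ← closure_hEl, MonoidHom.map_closure, Subgroup.closure_le]
    rintro _ ⟨_, ⟨x, rfl⟩, rfl⟩
    exact ⟨PresentedGroup.of x, PresentedGroup.toGroup.of hr⟩
  have hsimple : IsSimpleGroup Cfsg.Spor.Fi22 := Fi22Order.order_and_simple.1
  have hinj : Function.Injective β := by
    rcases β.normal_ker.eq_bot_or_eq_top with h | h
    · exact (MonoidHom.ker_eq_bot_iff _).1 h
    · exfalso
      refine ab_not_commute ?_
      have ha : hEl .a ∈ Subgroup.center H := by
        rw [← QuotientGroup.eq_one_iff]
        exact (PresentedGroup.toGroup.of hr).symm.trans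
          (MonoidHom.mem_ker.1 (h ▸ Subgroup.mem_top (PresentedGroup.of Fi22.Gen.a)))
      exact (Subgroup.mem_center_iff.1 ha _).symm
  let e := MulEquiv.ofBijective β ⟨hinj, hsurj⟩
  have hc : Nat.card (Subgroup.center H) = 2 := by
    have h := (Subgroup.center H).card_eq_card_quotient_mul_card_subgroup
    rw [card_H, ← Nat.card_congr e.toEquiv, Fi22Order.order_and_simple.2] at h
    omega
  refine ⟨hc, ⟨e.symm⟩, fun L hL => ?_⟩
  have hi : L.index = 2 := by rw [hL.index_eq_card, hc]
  have hall : ∀ x : Fi22.Gen, hEl x ∈ L ↔ hEl .a ∈ L := by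
    have hab := braid_same L hi (x := .a) (y := .b) (by decide) (by decide) (by decide)
    have hbc := braid_same L hi (x := .b) (y := .c) (by decide) (by decide) (by decide)
    have hcd := braid_same L hi (x := .c) (y := .d) (by decide) (by decide) (by decide)
    have hde := braid_same L hi (x := .d) (y := .e) (by decide) (by decide) (by decide)
    have hdh := braid_same L hi (x := .d) (y := .h) (by decide) (by decide) (by decide)
    have hef := braid_same L hi (x := .e) (y := .f) (by decide) (by decide) (by decide)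
    have hfg := braid_same L hi (x := .f) (y := .g) (by decide) (by decide) (by decide)
    have hhi := braid_same L hi (x := .h) (y := .i) (by decide) (by decide) (by decide)
    intro x
    cases x <;> tauto
  have hne : hEl .a ∉ L := by
    intro ha
    have htop : L = ⊤ := by
      rw [eq_top_iff, ← closure_hEl, Subgroup.closure_le]
      rintro _ ⟨x, rfl⟩
      exact (hall x).2 ha
    rw [htop, Subgroup.index_top] at hi
    omega
  let ε : Fi22.Gen → Prop := fun x => hEl x ∈ L
  have hrel : FreeGroup.lift hEl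
      ((Fi22.a * Fi22.b * Fi22.c * Fi22.d * Fi22.e * Fi22.f * Fi22.h) ^ 9) = 1 :=
    Subtype.ext (by rw [lift_hEl]; exact PresentedGroup.one_of_mem (Or.inr extra2_mem))
  have hodd : ∀ m : ℕ, ∀ w : H, w ∉ L → w ^ (2 * m + 1) ∉ L := by
    intro m w hw
    rw [pow_succ, pow_mul, pow_two, Subgroup.mul_mem_iff_of_index_two hi]
    exact fun h => hw (h.1 (Subgroup.pow_mem _ (Subgroup.mul_self_mem_of_index_two hi w) m))
  have hbase : (hEl .a * hEl .b * hEl .c * hEl .d * hEl .e * hEl .f * hEl .h) ∉ L := by
    simp only [Subgroup.mul_mem_iff_of_index_two hi, hall .b, hall .c, hall .d, hall .e, hall .f,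
      hall .h]
    tauto
  refine hodd 4 _ hbase ?_
  have : (hEl .a * hEl .b * hEl .c * hEl .d * hEl .e * hEl .f * hEl .h) ^ (2 * 4 + 1) = 1 := by
    rw [← hrel]; simp [map_pow, map_mul]
  rw [this]
  exact one_mem _

end Cfsg.Agent.Fi23Centralizer
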